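/-
The geometric subgroups of the special linear group of small dimension are maximal.

* `subspace_maximal`, `decomposition_maximal`, `field_maximal`, `tensor_maximal`, `subfield_maximal`
* `symplectic_maximal`, `unitary_maximal`, `quadratic_maximal`
-/
import Cfsg.Agent.EqLemmas
import Cfsg.Agent.Lib.Transvect.Basic
import Cfsg.Agent.Lib.Transvect.Block
import Cfsg.Agent.Lib.Transvect.BlockLine
import Cfsg.Agent.Lib.Transvect.SympForm
import Cfsg.Agent.Lib.Transvect.UnitForm
import Cfsg.Agent.Lib.Transvect.OrthInSL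
import Cfsg.Agent.Lib.FieldExtMax.Main
import Cfsg.Agent.Lib.C4.Linear
import Cfsg.Agent.Lib.C5.Linear
import Cfsg.Agent.Lib.C5.Transfer

set_option autoImplicit false

namespace Cfsg.Agent.SLGeomMax

open Cfsg
open Cfsg.Agent.Transvect

open scoped MatrixGroups

variable {F : Type*} [Field F] {n : ℕ}

lemma stab_transitive {W : Submodule F (Fin n → F)} {M : Subgroup (GL (Fin n) F)}
    (hM : Cfsg.Geo.subspaceStabilizer W ⊓ Cfsg.Geo.specialLinear (Fin n) F ≤ M)
    {u u' : Fin n → F} (hu : u ∉ W) (hd : u' - u ∈ W) (h : IsFull M u) : IsFull M u' := by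
  obtain ⟨φ, hφW, hφu⟩ := exists_dual_eq_one (W := W) hu
  have hd0 : φ (u' - u) = 0 := hφW _ hd
  have hmem : tv (u' - u) φ ∈ M :=
    hM ⟨mem_stab_of_le fun v hv => by
      rw [tv_apply hd0, hφW v hv, zero_smul, add_zero]; exact hv, tv_mem_sl _ _⟩
  simpa [tv_apply hd0, hφu] using h.conj hmem

lemma stab_transitive' {W : Submodule F (Fin n → F)} {M : Subgroup (GL (Fin n) F)}
    (hM : Cfsg.Geo.subspaceStabilizer W ⊓ Cfsg.Geo.specialLinear (Fin n) F ≤ M)
    {u u' : Fin n → F} (hu : u ∉ W) (hu' : u' ∉ W) (h : IsFull M u) : IsFull M u' := by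
  classical
  by_cases hd : u ∈ W ⊔ Submodule.span F {u' - u}
  · obtain ⟨w, hw, z, hz, hwz⟩ := Submodule.mem_sup.1 hd
    obtain ⟨c, rfl⟩ := Submodule.mem_span_singleton.1 hz
    have hc : c ≠ 0 := by
      rintro rfl
      rw [zero_smul, add_zero] at hwz
      exact hu (hwz ▸ hw)
    have key : c • u' = (1 + c) • u - w := by
      rw [add_smul, one_smul]
      linear_combination (norm := module) hwz
    have h1c : (1 : F) + c ≠ 0 := by
      intro h0
      rw [h0, zero_smul, zero_sub] at key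
      exact hu' (by
        have h5 := congrArg (c⁻¹ • ·) key
        simp only [smul_smul, inv_mul_cancel₀ hc, one_smul] at h5
        rw [h5]; exact W.smul_mem _ (W.neg_mem hw))
    have h2 : IsFull M (((1 + c) / c) • u) := h.smul (div_ne_zero h1c hc)
    refine stab_transitive hM ?_ ?_ h2
    · intro h6
      have h7 := W.smul_mem ((1 + c) / c)⁻¹ h6
      rw [smul_smul, inv_mul_cancel₀ (div_ne_zero h1c hc), one_smul] at h7
      exact hu h7
    · have h8 : u' - ((1 + c) / c) • u = c⁻¹ • (-w) := by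
        apply smul_right_injective (Fin n → F) hc
        simp only [smul_sub, smul_smul, mul_div_cancel₀ _ hc, mul_inv_cancel₀ hc, one_smul]
        rw [key]; module
      rw [h8]; exact W.smul_mem _ (W.neg_mem hw)
  · obtain ⟨φ, hφW, hφu⟩ := exists_dual_eq_one hd
    have hd0 : φ (u' - u) = 0 :=
      hφW _ (Submodule.mem_sup_right (Submodule.mem_span_singleton_self _))
    have hmem : tv (u' - u) φ ∈ M :=
      hM ⟨mem_stab_of_le fun v hv => by
        rw [tv_apply hd0, hφW v (Submodule.mem_sup_left hv), zero_smul, add_zero]; exact hv,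
        tv_mem_sl _ _⟩
    simpa [tv_apply hd0, hφu] using h.conj hmem


/-- The stabiliser of a proper subspace. -/
theorem subspace_maximal [Fintype F] (W : Submodule F (Fin n → F)) (hW0 : W ≠ ⊥) (hW1 : W ≠ ⊤) : Cfsg.Geo.IsMaximalIn (Cfsg.Geo.specialLinear (Fin n) F) (Cfsg.Geo.subspaceStabilizer W ⊓ Cfsg.Geo.specialLinear (Fin n) F) := by
  classical
  obtain ⟨w0, hw0W, hw0⟩ := Submodule.exists_mem_ne_zero_of_ne_bot hW0
  obtain ⟨u0, -, hu0⟩ := SetLike.exists_of_lt (lt_top_iff_ne_top.2 hW1)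
  refine isMaximalIn_of_forall inf_le_right ?_ ?_
  · obtain ⟨φ, hφ, hφw⟩ := exists_dual_eq_one (W := Submodule.span F {u0}) (u := w0) (by
      intro h
      obtain ⟨a, ha⟩ := Submodule.mem_span_singleton.1 h
      rcases eq_or_ne a 0 with rfl | ha0
      · simp [eq_comm, hw0] at ha
      · exact hu0 (by simpa [← ha, smul_smul, inv_mul_cancel₀ ha0] using W.smul_mem a⁻¹ hw0W))
    have hu : φ u0 = 0 := hφ u0 (Submodule.mem_span_singleton_self u0)
    refine ⟨tv u0 φ, tv_mem_sl _ _, fun h => ?_⟩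
    have h2 := mem_stab_iff.1 h.1 w0 hw0W
    rw [tv_apply hu, hφw, one_smul] at h2
    exact hu0 ((Submodule.add_mem_iff_right W hw0W).1 h2)
  · intro M hHM hMK g hgM hgH
    have hW : ∀ v ∈ W, IsFull M v := fun v hv φ hφ =>
      ⟨hφ, fun c => hHM ⟨mem_stab_of_le fun x hx => by
        rw [tv_apply (by simp [hφ])]
        exact W.add_mem hx (W.smul_mem _ hv), tv_mem_sl _ _⟩⟩
    obtain ⟨w, hwW, hgw⟩ : ∃ w ∈ W, app g w ∉ W := by
      by_contra h
      push Not at h
      exact hgH ⟨mem_stab_of_le h, hMK hgM⟩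
    refine sl_le_of_isFull M fun v _ => ?_
    by_cases hv : v ∈ W
    · exact hW v hv
    · exact stab_transitive' hHM hgw hv ((hW w hwW).conj hgM)

/-- A subfield group. -/
theorem subfield_maximal [Fintype F] (hn : 3 ≤ n) (F₀ : Subfield F) (r : ℕ) (hr : r.Prime) (hcard : Fintype.card F = Nat.card F₀ ^ r) (P : Matrix.GeneralLinearGroup (Fin n) F) : Cfsg.Geo.IsMaximalIn (Cfsg.Geo.specialLinear (Fin n) F) (Cfsg.Geo.subfieldSubgroup F₀ P ⊓ Cfsg.Geo.specialLinear (Fin n) F) := by
  classical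
  have key : Cfsg.Geo.IsMaximalIn (Cfsg.Geo.specialLinear (Fin n) F)
      (Cfsg.Geo.subfieldSubgroup F₀ 1 ⊓ Cfsg.Geo.specialLinear (Fin n) F) := by
    refine Transvect.isMaximalIn_of_forall inf_le_right ?_ fun M hHM hMK g hg hgH =>
      C5.sl_le_of_not_mem hr hcard (by rw [Fintype.card_fin]; omega) hHM hg fun h => hgH ⟨h, hMK hg⟩
    obtain ⟨l, hl⟩ : ∃ l : F, l ∉ F₀ := by
      by_contra! hall
      have h1 : Nat.card F₀ = Fintype.card F := by
        rw [← Nat.card_eq_fintype_card]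
        exact Nat.card_congr (Equiv.subtypeUnivEquiv hall)
      have h2 := Nat.pow_lt_pow_right (Fintype.one_lt_card (α := F)) hr.one_lt
      rw [pow_one] at h2
      rw [h1] at hcard
      omega
    let i : Fin n := ⟨0, by omega⟩
    let j : Fin n := ⟨1, by omega⟩
    have hij : i ≠ j := by simp [i, j]
    refine ⟨Transvect.tv (Pi.single i 1) (l • LinearMap.proj j), Transvect.tv_mem_sl _ _, fun h => ?_⟩
    obtain ⟨c, hc, hrat⟩ := C5.ratLine_mem_iff.1 h.1
    have hv : (l • LinearMap.proj j : (Fin n → F) →ₗ[F] F) (Pi.single i 1) = 0 := by simp [hij.symm]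
    have e1 := hrat _ (C5.rat_single i) i
    have e2 := hrat _ (C5.rat_single j) i
    rw [Transvect.tv_apply hv] at e1 e2
    simp [hij, hij.symm] at e1 e2
    apply hl
    have h3 := F₀.mul_mem e2 e1
    rw [mul_comm c⁻¹, mul_assoc, inv_mul_cancel₀ hc, mul_one] at h3
    exact h3
  have h1 := C5.isMaximalIn_map (MulAut.conj P) key
  rw [Subgroup.map_inf _ _ (MulAut.conj P).toMonoidHom (MulEquiv.injective _),
    C5.specialLinear_map_conj, ← C5.subfieldSubgroup_eq_map] at h1
  exact h1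

/-- The stabiliser of a decomposition. -/
theorem decomposition_maximal [Fintype F] (hn : 5 ≤ n) {t : ℕ} (m : ℕ)
    (D : Fin t → Submodule F (Fin n → F)) (hD : Cfsg.Geo.IsMDecomposition m D)
    (h1 : ¬ (m = 1 ∧ Fintype.card F ≤ 4)) (h2 : ¬ (m = 2 ∧ Fintype.card F = 2)) :
    Cfsg.Geo.IsMaximalIn (Cfsg.Geo.specialLinear (Fin n) F)
      (Cfsg.Geo.decompositionStabilizer D ⊓ Cfsg.Geo.specialLinear (Fin n) F) := by
  refine isMaximalIn_of_forall inf_le_right ?_ fun M hHM hMS g hg hgH => ?_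
  · obtain ⟨x, hx, hx'⟩ := exists_sl_notMem_stab hD
    exact ⟨x, hx, fun h => hx' h.1⟩
  · have hgD : g ∉ Cfsg.Geo.decompositionStabilizer D := fun h => hgH ⟨h, hMS hg⟩
    rcases Nat.eq_or_lt_of_le (Nat.succ_le_of_lt hD.pos) with hm | hm
    · subst hm
      exact sl_le_of_not_line hD (by rw [Fintype.card_fin]; omega) (by omega) hHM hMS hg hgD
    · exact sl_le_of_not_block hD hHM (by omega) (by rw [Fintype.card_fin]; omega) h2 hg hgD

/-- The normaliser of a field of prime degree less than the dimension. -/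
theorem field_maximal [Fintype F] {r : ℕ} (hr : r.Prime) (hrn : r < n)
    (K : Subalgebra F (Matrix (Fin n) (Fin n) F)) (hK : Cfsg.Geo.IsFieldSubalgebra r K) :
    Cfsg.Geo.IsMaximalIn (Cfsg.Geo.specialLinear (Fin n) F)
      (Cfsg.Geo.subalgebraNormalizer K ⊓ Cfsg.Geo.specialLinear (Fin n) F) := by
  obtain ⟨hM, hnle, -⟩ := FieldExtMax.gl_cases hr (by rwa [Fintype.card_fin]) hK
  refine ⟨lt_of_le_of_ne inf_le_right fun h => hnle (inf_eq_right.1 h), fun M h1 h2 => ?_⟩
  rcases hM M h1 with h | h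
  · exact Or.inl (le_antisymm (le_inf h h2) h1)
  · exact Or.inr (le_antisymm h2 h)

/-- The stabiliser of a tensor decomposition. -/
theorem tensor_maximal [Fintype F] {n₁ n₂ : ℕ} (h1 : 2 ≤ n₁) (h12 : n₁ < n₂)
    (hex : ¬ (n₁ = 2 ∧ Fintype.card F = 2)) (e : Fin n ≃ Fin n₁ × Fin n₂) (P : GL (Fin n) F) :
    Cfsg.Geo.IsMaximalIn (Cfsg.Geo.specialLinear (Fin n) F)
      (Cfsg.Geo.tensorProductSubgroup n₁ n₂ e P ⊓ Cfsg.Geo.specialLinear (Fin n) F) := by
  exact (C4.TData.mk e P).isMaximalIn_stab h1 h12 hex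

/-- The similarities of a symplectic form. -/
theorem symplectic_maximal [Fintype F] (hn : 3 ≤ n) (f : (Fin n → F) → (Fin n → F) → F)
    (hf : Cfsg.Geo.IsSymplecticForm f) :
    Cfsg.Geo.IsMaximalIn (Cfsg.Geo.specialLinear (Fin n) F)
      (Cfsg.Geo.similarityGroup f ⊓ Cfsg.Geo.specialLinear (Fin n) F) := by
  classical
  exact symplecticSimilarity_maximal (by simpa using hn) hf

/-- The similarities of a unitary form. -/
theorem unitary_maximal [Fintype F] (hn : 5 ≤ n) (σ : F ≃+* F)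
    (f : (Fin n → F) → (Fin n → F) → F) (hf : Cfsg.Geo.IsUnitaryForm σ f) :
    Cfsg.Geo.IsMaximalIn (Cfsg.Geo.specialLinear (Fin n) F)
      (Cfsg.Geo.similarityGroup f ⊓ Cfsg.Geo.specialLinear (Fin n) F) :=
  unitarySimilarity_maximal hf (by rw [Fintype.card_fin]; omega)

/-- The similarities of a quadratic form in odd characteristic. -/
theorem quadratic_maximal [Fintype F] (hn : 5 ≤ n) (hodd : Odd (Fintype.card F))
    (Q : (Fin n → F) → F) (hQ : Cfsg.Geo.IsNondegenerateQuadraticForm Q) :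
    Cfsg.Geo.IsMaximalIn (Cfsg.Geo.specialLinear (Fin n) F)
      (Cfsg.Geo.quadSimilarityGroup Q ⊓ Cfsg.Geo.specialLinear (Fin n) F) := by
  have h2 : (2 : F) ≠ 0 := Ring.two_ne_zero fun h => by
    have := (FiniteField.even_card_iff_char_two (F := F)).1 h
    have := Nat.odd_iff.1 hodd
    omega
  exact OrthSL.isMaximalIn_similarity (Orth.ofND_nondeg hQ) h2
    (by rw [Fintype.card_fin]; omega)

end Cfsg.Agent.SLGeomMax
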